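import Mathlib

/-!
# Decomposition groups: the local rings downstairs agree up to completion
-/

set_option autoImplicit false

universe u

open Pointwise IsLocalRing

namespace Groth.Agent.InvDecomp

variable {B R : Type u} [CommRing B] [CommRing R] [Algebra B R] {G : Type u} [Group G] [Finite G]
  [MulSemiringAction G R] [SMulCommClass G B R]

/-- near a minimal prime over an ideal, a power of the prime lies in the ideal -/
theorem exists_pow_le [IsNoetherianRing R] (I Q : Ideal R) [hQ : Q.IsPrime] (hIQ : I ≤ Q)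
    (hmin : ∀ P : Ideal R, P.IsPrime → I ≤ P → P ≤ Q → P = Q) :
    ∃ c : ℕ, ∃ w ∉ Q, ∀ y ∈ Q ^ c, w * y ∈ I := by
  let L := Localization.AtPrime Q
  have hrad : (Q.map (algebraMap R L)) ≤ (I.map (algebraMap R L)).radical := by
    rw [Ideal.radical_eq_sInf]
    refine le_sInf fun P ⟨hP, hPp⟩ => ?_
    have hdis := (IsLocalization.isPrime_iff_isPrime_disjoint Q.primeCompl L P).1 hPp
    have e := hmin (P.comap (algebraMap R L)) hdis.1 (Ideal.map_le_iff_le_comap.1 hP)
      (fun x hx => not_not.1 fun h => Set.disjoint_left.1 hdis.2 h hx)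
    exact (Ideal.map_mono e.ge).trans Ideal.map_comap_le
  obtain ⟨c, hc⟩ := Ideal.exists_pow_le_of_le_radical_of_fg hrad (IsNoetherian.noetherian _)
  rw [← Ideal.map_pow] at hc
  obtain ⟨S, hS⟩ := (IsNoetherian.noetherian (Q ^ c) : (Q ^ c).FG)
  have hgen : ∀ y ∈ Q ^ c, ∃ w ∈ Q.primeCompl, w * y ∈ I := fun y hy => by
    have h1 := hc (Ideal.mem_map_of_mem _ hy)
    exact (IsLocalization.algebraMap_mem_map_algebraMap_iff Q.primeCompl L I y).1 h1
  choose! w hw hwI using hgen
  refine ⟨c, ∏ y ∈ S, w y, ?_, ?_⟩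
  · exact prod_mem (S := Q.primeCompl) fun y hy => hw y (hS ▸ Submodule.subset_span hy)
  · intro y hy
    rw [← hS] at hy
    refine Submodule.span_induction (fun z hz => ?_) (by simp) (fun a b _ _ ha hb => ?_) (fun a b _ hb => ?_) hy
    · obtain ⟨d, hd⟩ := Finset.dvd_prod_of_mem w hz
      rw [hd, mul_right_comm]
      exact Ideal.mul_mem_right _ _ (hwI z (hS ▸ Submodule.subset_span hz))
    · rw [mul_add]; exact add_mem ha hb
    · rw [smul_eq_mul, mul_left_comm]; exact Ideal.mul_mem_left _ _ hb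

theorem smul_mem_pow {g : G} {x : R} {Q : Ideal R} {N : ℕ} (hx : x ∈ Q ^ N) : g • x ∈ (g • Q) ^ N := by
  rw [Ideal.pointwise_smul_def, ← Ideal.map_pow]
  exact Ideal.mem_map_of_mem (MulSemiringAction.toRingHom G R g) hx

theorem mem_of_smul_mem_pow {g : G} {x : R} {Q : Ideal R} {N : ℕ} (hx : x ∈ (g⁻¹ • Q) ^ N) : g • x ∈ Q ^ N := by
  have := smul_mem_pow (g := g) hx
  rwa [smul_inv_smul] at this

variable [IsNoetherianRing B] [Module.Finite B R] [Algebra.IsInvariant B R G]

variable (G) in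
include G in
/-- invariant elements deep in a symbolic power of a prime upstairs are deep downstairs -/
theorem exists_deep (hinj : Function.Injective (algebraMap B R)) (q : Ideal R) [q.IsPrime] (p : Ideal B)
    [p.IsPrime] (hp : q.comap (algebraMap B R) = p) (n : ℕ) :
    ∃ N, ∀ b : B, (∃ u ∉ q, u * algebraMap B R b ∈ q ^ N) →
      algebraMap B (Localization.AtPrime p) b ∈ maximalIdeal (Localization.AtPrime p) ^ n := by
  haveI : IsNoetherianRing R := IsNoetherianRing.of_finite B R
  haveI : Algebra.IsIntegral B R := Algebra.IsInvariant.isIntegral B R G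
  obtain ⟨k, hk⟩ := p.exists_pow_inf_eq_pow_smul (LinearMap.range (Algebra.linearMap B R))
  let I : Ideal R := p.map (algebraMap B R)
  have hover : ∀ g : G, (g • q).comap (algebraMap B R) = p := fun g => by
    rw [← hp]
    ext b
    simp only [Ideal.mem_comap, Ideal.mem_pointwise_smul_iff_inv_smul_mem, smul_algebraMap]
  haveI hprime : ∀ g : G, (g • q).IsPrime := fun g => Ideal.IsPrime.smul g
  have hc : ∀ g : G, ∃ c : ℕ, ∃ w ∉ g • q, ∀ y ∈ (g • q) ^ c, w * y ∈ I := fun g =>
    exists_pow_le I _ (Ideal.map_le_iff_le_comap.2 (hover g).ge) fun P hP hIP hPQ => by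
      by_contra hne
      obtain ⟨x, hxQ, hxP⟩ := SetLike.exists_of_lt (lt_of_le_of_ne hPQ hne)
      have := Ideal.comap_lt_comap_of_integral_mem_sdiff hPQ ⟨hxQ, hxP⟩ (Algebra.IsIntegral.isIntegral (R := B) x)
      rw [hover g] at this
      exact this.not_ge (Ideal.map_le_iff_le_comap.1 hIP)
  choose c w hw hwI using hc
  haveI := Fintype.ofFinite G
  let C := Finset.univ.sup c
  refine ⟨C * (n + k), fun b ⟨u, hu, hub⟩ => ?_⟩
  let K : Ideal R := Submodule.comap (LinearMap.mulRight R (algebraMap B R b)) (I ^ (n + k))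
  have hK : ∀ a, a ∈ K ↔ a * algebraMap B R b ∈ I ^ (n + k) := fun a => Iff.rfl
  have hmeet : ¬ Disjoint (K : Set R) (Algebra.algebraMapSubmonoid R p.primeCompl) := by
    intro hd
    obtain ⟨Q, hQ, hKQ, hQd⟩ := Ideal.exists_le_prime_disjoint K _ hd
    have hle : Q.comap (algebraMap B R) ≤ p := fun x hx => not_not.1 fun hxp =>
      Set.disjoint_left.1 hQd hx ⟨x, hxp, rfl⟩
    have hIQ : I ≤ Q := by
      by_contra hIQ
      refine hIQ (hQ.le_of_pow_le (n := n + k) (le_trans (fun a ha => ?_) hKQ))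
      exact (hK a).2 (Ideal.mul_mem_right _ _ ha)
    obtain ⟨g, rfl⟩ := Algebra.IsInvariant.exists_smul_of_under_eq B R G q Q
      (hp.trans (le_antisymm (Ideal.map_le_iff_le_comap.1 hIQ) hle))
    have h1 : (g • u) * algebraMap B R b ∈ ((g • q) ^ c g) ^ (n + k) := by
      rw [← pow_mul]
      refine Ideal.pow_le_pow_right (Nat.mul_le_mul_right _ (Finset.le_sup (f := c) (Finset.mem_univ g))) ?_
      simpa [smul_mul', smul_algebraMap] using smul_mem_pow (g := g) hub
    have h2 : ∀ m, ∀ y ∈ ((g • q) ^ c g) ^ m, w g ^ m * y ∈ I ^ m := by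
      intro m
      induction m with
      | zero => simp
      | succ m ih =>
        intro y hy
        rw [pow_succ] at hy
        refine Submodule.mul_induction_on hy (fun a ha b hb => ?_) (fun a b ha hb => by rw [mul_add]; exact add_mem ha hb)
        rw [pow_succ, pow_succ, mul_mul_mul_comm]
        exact Ideal.mul_mem_mul (ih a ha) (hwI g b hb)
    have h3 : w g ^ (n + k) * (g • u) ∈ g • q := hKQ ((hK _).2 (by rw [mul_assoc]; exact h2 _ _ h1))
    rcases hQ.mem_or_mem h3 with h | h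
    · exact hw g (hQ.mem_of_pow_mem _ h)
    · exact hu (Ideal.smul_mem_pointwise_smul_iff.1 h)
  obtain ⟨a, ha, s, hs, rfl⟩ := Set.not_disjoint_iff.1 hmeet
  have hsb : algebraMap B R (s * b) ∈ p ^ (n + k) • (⊤ : Submodule B R) ⊓ LinearMap.range (Algebra.linearMap B R) := by
    refine ⟨?_, s * b, rfl⟩
    rw [Ideal.smul_top_eq_map, map_mul]
    show _ ∈ Ideal.map (algebraMap B R) (p ^ (n + k))
    rw [Ideal.map_pow]
    exact ha
  rw [hk _ (by omega), show n + k - k = n by omega] at hsb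
  have h4 := Submodule.smul_mono (I := p ^ n) le_rfl (inf_le_right (a := p ^ k • (⊤ : Submodule B R))) hsb
  rw [LinearMap.range_eq_map, ← Submodule.map_smul''] at h4
  obtain ⟨z, hz, hze⟩ := h4
  rw [smul_eq_mul, Ideal.mul_top] at hz
  obtain rfl : z = s * b := hinj hze
  rw [← Localization.AtPrime.map_eq_maximalIdeal, ← Ideal.map_pow,
    IsLocalization.algebraMap_mem_map_algebraMap_iff p.primeCompl]
  exact ⟨s, hs, hz⟩

/-- an element invariant under `H` concentrated at the `H`-orbit of `q` -/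
theorem exists_projector (H : Subgroup G) (q : Ideal R) [q.IsPrime] (hD : MulAction.stabilizer G q ≤ H) (N : ℕ) :
    ∃ (t : B) (e : R), algebraMap B R t ∉ q ∧ (∀ h ∈ H, h • e = e) ∧ e - algebraMap B R t ∈ q ^ N ∧
      ∀ g : G, g ∉ H → g • e ∈ q ^ N := by
  classical
  haveI := Fintype.ofFinite G
  haveI : Algebra.IsIntegral B R := Algebra.IsInvariant.isIntegral B R G
  have hpair : ∀ g : G, g ∉ H → ∃ (s : B) (v : R), algebraMap B R s ∉ q ∧ v ∈ (g • q) ^ N ∧
      algebraMap B R s - v ∈ q ^ N := by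
    intro g hg
    by_contra hne
    push Not at hne
    have hd : Disjoint ((q ^ N ⊔ (g • q) ^ N : Ideal R) : Set R)
        (Algebra.algebraMapSubmonoid R (q.comap (algebraMap B R)).primeCompl) := by
      refine Set.disjoint_left.2 fun x hx ⟨s, hs, hsx⟩ => ?_
      obtain ⟨a, ha, v, hv, rfl⟩ := Submodule.mem_sup.1 hx
      refine hne s v hs hv ?_
      rw [hsx, add_sub_cancel_right]
      exact ha
    obtain ⟨Q, hQ, hle, hQd⟩ := Ideal.exists_le_prime_disjoint _ _ hd
    have h1 : q ≤ Q := hQ.le_of_pow_le (le_trans le_sup_left hle)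
    have h2 : g • q ≤ Q := hQ.le_of_pow_le (le_trans le_sup_right hle)
    have hcomap : Q.comap (algebraMap B R) ≤ q.comap (algebraMap B R) := fun x hx => not_not.1 fun hxp =>
      Set.disjoint_left.1 hQd hx ⟨x, hxp, rfl⟩
    have heq : ∀ P : Ideal R, P.IsPrime → q.comap (algebraMap B R) ≤ P.comap (algebraMap B R) → P ≤ Q → P = Q := by
      intro P hP hqP hPQ
      by_contra hne'
      obtain ⟨x, hxQ, hxP⟩ := SetLike.exists_of_lt (lt_of_le_of_ne hPQ hne')
      have := Ideal.comap_lt_comap_of_integral_mem_sdiff hPQ ⟨hxQ, hxP⟩ (Algebra.IsIntegral.isIntegral (R := B) x)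
      exact this.not_ge (hcomap.trans hqP)
    have e1 := heq q inferInstance le_rfl h1
    have e2 := heq (g • q) (Ideal.IsPrime.smul g) (fun x hx => by
      simpa only [Ideal.mem_comap, Ideal.mem_pointwise_smul_iff_inv_smul_mem, smul_algebraMap] using hx) h2
    exact hg (hD (MulAction.mem_stabilizer_iff.2 (e2.trans e1.symm)))
  choose! s v hs hv hsv using hpair
  let T := Finset.univ.filter (fun g : G => g ∉ H)
  let t₀ : B := ∏ g ∈ T, s g
  let a : R := ∏ g ∈ T, v g
  have ha : algebraMap B R t₀ - a ∈ q ^ N := by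
    rw [← Ideal.Quotient.mk_eq_mk_iff_sub_mem, map_prod, map_prod, map_prod]
    exact Finset.prod_congr rfl fun g hg => (Ideal.Quotient.mk_eq_mk_iff_sub_mem _ _).2 (hsv g (Finset.mem_filter.1 hg).2)
  have ha' : ∀ g : G, g ∉ H → a ∈ (g • q) ^ N := fun g hg =>
    Ideal.mem_of_dvd _ (Finset.dvd_prod_of_mem v (Finset.mem_filter.2 ⟨Finset.mem_univ g, hg⟩)) (hv g hg)
  refine ⟨t₀ ^ Fintype.card H, algebraMap B R t₀ ^ Fintype.card H - ∏ h : H, (algebraMap B R t₀ - (h : G) • a),
    ?_, fun g hg => ?_, ?_, fun g hg => ?_⟩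
  · rw [map_pow, map_prod]
    intro h
    obtain ⟨g, hgT, hgq⟩ := (Ideal.IsPrime.prod_mem_iff (p := q)).1 (Ideal.IsPrime.mem_of_pow_mem ‹_› _ h)
    exact hs g (Finset.mem_filter.1 hgT).2 hgq
  · rw [smul_sub, smul_pow', smul_algebraMap, Finset.smul_prod']
    congr 1
    refine Fintype.prod_equiv (Equiv.mulLeft ⟨g, hg⟩) _ _ fun h => ?_
    rw [smul_sub, smul_algebraMap, smul_smul]
    rfl
  · rw [map_pow, sub_sub_cancel_left, neg_mem_iff]
    refine Ideal.mem_of_dvd _ (Finset.dvd_prod_of_mem _ (Finset.mem_univ (1 : H))) ?_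
    rwa [OneMemClass.coe_one, one_smul]
  · refine mem_of_smul_mem_pow ?_
    rw [← Ideal.Quotient.eq_zero_iff_mem, map_sub, map_pow, map_prod (Ideal.Quotient.mk ((g⁻¹ • q) ^ N)),
      sub_eq_zero, ← Finset.card_univ,
      ← Finset.prod_const]
    refine Finset.prod_congr rfl fun h _ => ?_
    have hh : (h : G) • a ∈ (g⁻¹ • q) ^ N := by
      refine mem_of_smul_mem_pow (g := (h : G)) ?_
      rw [smul_smul]
      refine ha' _ fun hmem => hg ?_
      have := H.mul_mem h.2 hmem
      rw [mul_inv_cancel_left] at this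
      exact inv_inv g ▸ H.inv_mem this
    rw [map_sub, Ideal.Quotient.eq_zero_iff_mem.2 hh, sub_zero]

/-- the trace argument -/
theorem exists_approx (H : Subgroup G) (q : Ideal R) [q.IsPrime] (hD : MulAction.stabilizer G q ≤ H) (N : ℕ)
    (x : R) (hx : ∀ h ∈ H, h • x = x) :
    ∃ t b : B, algebraMap B R t ∉ q ∧ algebraMap B R b - x * algebraMap B R t ∈ q ^ N := by
  classical
  obtain ⟨t, e, ht, he, het, hge⟩ := exists_projector (B := B) H q hD N
  haveI := Fintype.ofFinite (G ⧸ H)
  let f : G ⧸ H → R := fun c => Quotient.liftOn' c (fun g => g • (x * e)) (fun g g' hgg => by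
    have h1 : g⁻¹ * g' ∈ H := QuotientGroup.leftRel_apply.1 hgg
    show g • (x * e) = g' • (x * e)
    rw [← mul_inv_cancel_left g g', mul_smul, smul_mul' (g⁻¹ * g'), hx _ h1, he _ h1])
  obtain ⟨b, hb⟩ := Algebra.IsInvariant.isInvariant (A := B) (G := G) (∑ c, f c) (fun g => by
    rw [Finset.smul_sum]
    refine Fintype.sum_equiv (MulAction.toPerm g) _ _ fun c => ?_
    induction c using Quotient.inductionOn' with
    | h g' => exact (smul_smul g g' (x * e)))
  refine ⟨t, b, ht, ?_⟩
  rw [hb, ← Finset.add_sum_erase _ f (Finset.mem_univ ((1 : G) : G ⧸ H)), add_sub_right_comm]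
  refine add_mem ?_ (Submodule.sum_mem _ fun c hc => ?_)
  · show (1 : G) • (x * e) - x * algebraMap B R t ∈ q ^ N
    rw [one_smul, ← mul_sub]
    exact Ideal.mul_mem_left _ _ het
  · induction c using Quotient.inductionOn' with
    | h g =>
      show g • (x * e) ∈ q ^ N
      rw [smul_mul']
      refine Ideal.mul_mem_left _ _ (hge g fun hg => (Finset.mem_erase.1 hc).1 ?_)
      exact QuotientGroup.eq.2 (by simpa using hg)

end Groth.Agent.InvDecomp
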