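import Groth.Agent.InvDecomp.Basic

/-!
# The local homomorphism below a decomposition group
-/

set_option autoImplicit false

universe u

open Pointwise IsLocalRing

namespace Groth.Agent.InvDecomp

theorem sup_pow_le {A : Type u} [CommRing A] (M J : Ideal A) : ∀ n : ℕ, (M ⊔ J) ^ n ≤ M ^ n ⊔ J
  | 0 => by simp
  | n + 1 => by
    rw [pow_succ, pow_succ]
    refine (Ideal.mul_mono (sup_pow_le M J n) le_rfl).trans ?_
    rw [Ideal.sup_mul, Ideal.mul_sup]
    exact sup_le (sup_le_sup le_rfl Ideal.mul_le_right) (Ideal.mul_le_left.trans' le_rfl |>.trans le_sup_right)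

theorem local_completion {B R' R G : Type u} [CommRing B] [CommRing R'] [CommRing R] [Algebra B R'] [Algebra R' R]
    [Algebra B R] [IsScalarTower B R' R] [Group G] [Finite G] [MulSemiringAction G R] [SMulCommClass G B R]
    [IsNoetherianRing B] [Module.Finite B R] [Algebra.IsInvariant B R G] [IsNoetherianRing R'] [Module.Finite R' R]
    (H : Subgroup G) [SMulCommClass H R' R] [Algebra.IsInvariant R' R H]
    (hinj : Function.Injective (algebraMap B R)) (hinj' : Function.Injective (algebraMap R' R))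
    (q : Ideal R) [q.IsPrime] (hD : MulAction.stabilizer G q ≤ H) (p : Ideal B) [p.IsPrime]
    (q' : Ideal R') [q'.IsPrime] (hq' : q.comap (algebraMap R' R) = q') (hp : p = q'.comap (algebraMap B R'))
    (n : ℕ) :
    Function.Surjective ((Ideal.Quotient.mk (maximalIdeal (Localization.AtPrime q') ^ n)).comp
        (Localization.localRingHom p q' (algebraMap B R') hp)) ∧
      Ideal.comap (Localization.localRingHom p q' (algebraMap B R') hp)
          (maximalIdeal (Localization.AtPrime q') ^ n) = maximalIdeal (Localization.AtPrime p) ^ n := by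
  have hpq : q.comap (algebraMap B R) = p := by
    rw [hp, ← hq', Ideal.comap_comap, ← IsScalarTower.algebraMap_eq]
  let φ := Localization.localRingHom p q' (algebraMap B R') hp
  let m := maximalIdeal (Localization.AtPrime q')
  have hφ : ∀ b, φ (algebraMap B _ b) = algebraMap R' _ (algebraMap B R' b) :=
    fun b => Localization.localRingHom_to_map _ _ _ _ b
  have hunit : ∀ t : B, algebraMap B R t ∉ q → IsUnit (algebraMap B (Localization.AtPrime p) t) := fun t ht =>
    IsLocalization.map_units _ (⟨t, fun h => ht (hpq.ge h)⟩ : p.primeCompl)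
  have hgen : ∀ (j : ℕ) (x : R'), ∃ β, φ β - algebraMap R' _ x ∈ m ^ j := fun j x => by
    obtain ⟨N, hN⟩ := exists_deep (B := R') (G := H) hinj' q q' hq' j
    obtain ⟨t, b, ht, hb⟩ := exists_approx (B := B) H q hD N (algebraMap R' R x)
      fun h hh => smul_algebraMap (⟨h, hh⟩ : H) x
    have h1 := hN (algebraMap B R' b - x * algebraMap B R' t) ⟨1, q.one_notMem, by
      rw [one_mul, map_sub, map_mul, ← IsScalarTower.algebraMap_apply, ← IsScalarTower.algebraMap_apply]
      exact hb⟩
    rw [map_sub, map_mul, ← hφ, ← hφ] at h1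
    obtain ⟨w, hw⟩ := (hunit t ht).exists_right_inv
    refine ⟨algebraMap B _ b * w, ?_⟩
    have h2 := Ideal.mul_mem_right (φ w) _ h1
    rw [sub_mul, mul_assoc, ← map_mul φ (algebraMap B _ t) w, hw, map_one, mul_one, ← map_mul] at h2
    exact h2
  have hsurj : ∀ j, Function.Surjective ((Ideal.Quotient.mk (m ^ j)).comp φ) := by
    intro j y
    obtain ⟨y, rfl⟩ := Ideal.Quotient.mk_surjective y
    obtain ⟨⟨r, u⟩, rfl⟩ := IsLocalization.mk'_surjective q'.primeCompl y
    rcases Nat.eq_zero_or_pos j with rfl | hj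
    · exact ⟨0, Ideal.Quotient.eq.2 (by rw [pow_zero, Ideal.one_eq_top]; trivial)⟩
    obtain ⟨β₁, h1⟩ := hgen j r
    obtain ⟨β₂, h2⟩ := hgen j u
    have hu : IsUnit β₂ := by
      by_contra hnu
      have h3 : φ β₂ ∈ m := by
        rw [mem_maximalIdeal, mem_nonunits_iff]
        exact fun h => hnu (IsUnit.of_map φ _ h)
      have h4 : algebraMap R' _ (u : R') ∈ m := by
        have := sub_mem h3 (Ideal.pow_le_self (by omega) h2)
        rwa [sub_sub_cancel] at this
      exact h4 (IsLocalization.map_units _ u)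
    obtain ⟨w, hw⟩ := hu.exists_right_inv
    refine ⟨β₁ * w, ?_⟩
    rw [RingHom.comp_apply, ← ((IsLocalization.map_units (Localization.AtPrime q') u).map
      (Ideal.Quotient.mk (m ^ j))).mul_left_inj, ← map_mul, ← map_mul, IsLocalization.mk'_spec,
      ← Ideal.Quotient.eq.2 h1, map_mul, ← Ideal.Quotient.eq.2 h2, ← map_mul, ← map_mul, mul_assoc,
      mul_comm w β₂, hw, mul_one]
  refine ⟨hsurj n, le_antisymm (fun β hβ => ?_) ?_⟩
  · obtain ⟨N₀, hN₀⟩ := exists_deep G hinj q p hpq n
    let N := N₀ + n + 1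
    have hker : ∀ γ, φ γ ∈ m ^ N → γ ∈ maximalIdeal (Localization.AtPrime p) ^ n := by
      intro γ hγ
      obtain ⟨⟨b, s⟩, rfl⟩ := IsLocalization.mk'_surjective p.primeCompl γ
      have h1 : algebraMap R' (Localization.AtPrime q') (algebraMap B R' b) ∈ m ^ N := by
        rw [← hφ, ← IsLocalization.mk'_spec (Localization.AtPrime p) b s, map_mul]
        exact Ideal.mul_mem_right _ _ hγ
      rw [show m = q'.map (algebraMap R' (Localization.AtPrime q')) from
          Localization.AtPrime.map_eq_maximalIdeal.symm, ← Ideal.map_pow,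
        IsLocalization.algebraMap_mem_map_algebraMap_iff q'.primeCompl] at h1
      obtain ⟨u, hu, hub⟩ := h1
      have h2 := hN₀ b ⟨algebraMap R' R u, fun h => hu (by rw [← hq']; exact h), by
        rw [IsScalarTower.algebraMap_apply B R' R, ← map_mul]
        refine Ideal.pow_le_pow_right (show N₀ ≤ N by omega) ?_
        refine Ideal.le_comap_pow (algebraMap R' R) N ?_
        rwa [hq']⟩
      show IsLocalization.mk' (Localization.AtPrime p) b s ∈ _
      rw [IsLocalization.mk'_eq_mul_mk'_one]
      exact Ideal.mul_mem_right _ _ h2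
    have hm : m ≤ (maximalIdeal (Localization.AtPrime p)).map φ ⊔ m ^ N := by
      intro y hy
      obtain ⟨γ, hγ⟩ := hsurj N (Ideal.Quotient.mk _ y)
      have h5 : φ γ - y ∈ m ^ N := Ideal.Quotient.eq.1 hγ
      refine Submodule.mem_sup.2 ⟨φ γ, Ideal.mem_map_of_mem φ ?_, y - φ γ, ?_, add_sub_cancel _ _⟩
      · rw [mem_maximalIdeal, mem_nonunits_iff]
        intro h
        have h6 : φ γ ∈ m := by
          simpa using add_mem (Ideal.pow_le_self (show N ≠ 0 by omega) h5) hy
        exact h6 (h.map φ)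
      · rw [← neg_sub]; exact neg_mem h5
    have h3 := (Ideal.pow_right_mono hm n).trans (sup_pow_le _ _ n) hβ
    rw [← Ideal.map_pow] at h3
    have h4 : Ideal.Quotient.mk (m ^ N) (φ β) ∈
        (maximalIdeal (Localization.AtPrime p) ^ n).map ((Ideal.Quotient.mk (m ^ N)).comp φ) := by
      rw [← Ideal.map_map]
      obtain ⟨a, ha, c, hc, e⟩ := Submodule.mem_sup.1 h3
      rw [← e, map_add, Ideal.Quotient.eq_zero_iff_mem.2 hc, add_zero]
      exact Ideal.mem_map_of_mem _ ha
    obtain ⟨γ, hγ, hγe⟩ := (Ideal.mem_map_iff_of_surjective _ (hsurj N)).1 h4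
    rw [← sub_add_cancel β γ]
    refine add_mem (hker _ ?_) hγ
    rw [map_sub]
    exact Ideal.Quotient.eq.1 hγe.symm
  · rw [← Ideal.map_le_iff_le_comap, Ideal.map_pow]
    refine Ideal.pow_right_mono (Ideal.map_le_iff_le_comap.2 fun x hx => ?_) n
    rw [Ideal.mem_comap, mem_maximalIdeal, mem_nonunits_iff]
    exact fun h => hx (IsUnit.of_map φ _ h)

end Groth.Agent.InvDecomp
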